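import Cfsg.Agent.TO.Blk_m3
import Cfsg.Agent.BHZ.Nil.DZ_m3
import Cfsg.Agent.H400.LieLocal
import Cfsg.Agent.H334.Star.Own
import Cfsg.Agent.S2439
import Cfsg.Agent.S2299
import Cfsg.Agent.H686.CharKit
import Cfsg.Agent.TO.Rows_m3
import Cfsg.Agent.H95.StemCover
import Cfsg.Agent.S2117
import Cfsg.Agent.S2118
import Cfsg.Agent.FastGrp
import Cfsg.Agent.Prune
set_option linter.all false
prune_inst 0x7f00000000000000000000000000000000000000000000000000000000000000000000000000000000000000000000000000000000000000000000000000000000000000000000000000000000000000003fffffffffffffffffffffffffffbeffbdffffffff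
open scoped Cfsg.Agent.FastGrp

-- part: TO/DC/Rk
section
/-!
# S4817, defining characteristic: only `PSL₂` survives purity
-/

set_option autoImplicit false
set_option linter.unusedSectionVars false

namespace Cfsg.Agent.TO.DC

open Cfsg
open Cfsg.Agent.BHZ.Nil (KK)
open scoped Pointwise

section Gen

variable {p : ℕ} [hp : Fact p.Prime] {S : Type*} [Group S] [Finite S] {A : Subgroup (MulAut S)} {Q : Subgroup S}

/-- `x` lies in at most one Sylow subgroup -/
def Uq (p : ℕ) {S : Type*} [Group S] (x : S) : Prop :=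
  ∀ P P' : Sylow p S, x ∈ (P : Subgroup S) → x ∈ (P' : Subgroup S) → P = P'

theorem Uq.aut {x : S} (h : Uq p x) (α : MulAut S) : Uq p (α x) := by
  intro P P' h1 h2
  have key : ∀ R : Sylow p S, α x ∈ (R : Subgroup S) → x ∈ ((α⁻¹ • R : Sylow p S) : Subgroup S) := by
    intro R hR
    rw [Sylow.pointwise_smul_def]
    exact ⟨α x, hR, by simp⟩
  exact MulAction.injective α⁻¹ (h _ _ (key P h1) (key P' h2))

theorem uq_of {P : Sylow p S} {x : S}
    (h : ∀ g : S, g * x * g⁻¹ ∈ (P : Subgroup S) → g ∈ Subgroup.normalizer ((P : Subgroup S) : Set S)) : Uq p x := by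
  have key : ∀ R : Sylow p S, x ∈ (R : Subgroup S) → R = P := by
    intro R hR
    obtain ⟨g, hg⟩ := MulAction.exists_smul_eq S R P
    have h1 : g * x * g⁻¹ ∈ (P : Subgroup S) := by
      rw [← hg, Sylow.coe_subgroup_smul]
      exact ⟨x, hR, rfl⟩
    have h2 := Sylow.smul_eq_iff_mem_normalizer.2 (h g h1)
    exact MulAction.injective g (hg.trans h2.symm)
  exact fun R R' h1 h2 => (key R h1).trans (key R' h2).symm

theorem Uq.mem_normalizer {P : Sylow p S} {x g : S} (h : Uq p x) (hx : x ∈ (P : Subgroup S))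
    (hg : g * x * g⁻¹ ∈ (P : Subgroup S)) : g ∈ Subgroup.normalizer ((P : Subgroup S) : Set S) := by
  have h1 : x ∈ ((g⁻¹ • P : Sylow p S) : Subgroup S) := by
    rw [Sylow.coe_subgroup_smul]
    exact ⟨_, hg, by simp only [mul_assoc, _root_.map_inv, _root_.MulDistribMulAction.toMonoidEnd_apply, _root_.MulDistribMulAction.toMonoidHom_apply, _root_.smul_mul', _root_.MulAut.smul_def, _root_.MulAut.inv_apply, _root_.MulAut.conj_symm_apply, _root_.inv_mul_cancel, _root_.one_mul, _root_.smul_inv', _root_.mul_inv_cancel, _root_.mul_one, _root_.mul_inv_cancel_left]⟩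
  exact inv_mem_iff.1 (Sylow.smul_eq_iff_mem_normalizer.1 (h _ _ h1 hx))

theorem pure_pCore (h : Pure p S A Q) :
    pCore p (Subgroup.normalizer (Q : Set S)) = Q.subgroupOf (Subgroup.normalizer (Q : Set S)) := by
  have hn : (pCore p (Subgroup.normalizer (Q : Set S))).Normal :=
    Subgroup.sSup_normal _ fun _ hN => hN.1
  have hpg : IsPGroup p (pCore p (Subgroup.normalizer (Q : Set S))) :=
    Sylow.sSup_of_normal _ (fun _ hN => hN.2) (fun _ hN => hN.1)
  have h2 : Q.subgroupOf (Subgroup.normalizer (Q : Set S)) ≤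
      pCore p (Subgroup.normalizer (Q : Set S)) :=
    le_sSup ⟨Subgroup.normal_in_normalizer, h.pg.comap_subtype⟩
  have h3 := h.rad _ (hpg.map (Subgroup.normalizer (Q : Set S)).subtype)
    (fun d hd => ⟨⟨d, Subgroup.le_normalizer hd⟩, h2 hd, rfl⟩) (by
      intro x hx
      refine Subgroup.mem_normalizer_fintype ?_
      rintro _ ⟨k, hk, rfl⟩
      exact ⟨(⟨x, hx⟩ * k * ⟨x, hx⟩⁻¹ :), hn.conj_mem k hk _, rfl⟩) (Subgroup.map_subtype_le _)
  refine le_antisymm (fun k hk => ?_) h2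
  exact h3.le ⟨k, hk, rfl⟩

theorem pure_ne_bot (h : Pure p S A Q) : Q ≠ ⊥ := fun e => h.nc (by rw [e]; infer_instance)

/-- in defining characteristic `C(Q) ≤ Q` -/
theorem pure_cent (hS : IsLieTypeChar p S) (h : Pure p S A Q) : Ce Q ≤ Q := by
  have hs := H400.LieSimple.isSimple_of_lie hS
  have hc := H400.LieLocal.local_char_of_lie hS (fun h' => h.odd h'.1) Q h.pg (pure_ne_bot h)
  rw [pure_pCore h] at hc
  intro x hx
  exact hc (x := ⟨x, Subgroup.centralizer_le_normalizer _ hx⟩)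
    (Subgroup.mem_centralizer_iff.2 fun k hk =>
      Subtype.ext (Subgroup.mem_centralizer_iff.1 hx k hk))

/-- all nontrivial `p`-elements are conjugate under automorphisms -/
def One (p : ℕ) (S : Type*) [Group S] : Prop :=
  ∀ u v : S, PElt p u → PElt p v → u ≠ 1 → v ≠ 1 → ∃ α : MulAut S, α u = v

theorem pure_one (hS : IsLieTypeChar p S) (h : Pure p S A Q) : One p S := by
  have h1 := BHZ.Nil.KK_eq_top_of_le h.pg (pure_cent hS h)
  intro u v hu hv hu1 hv1
  obtain ⟨α, -, e⟩ := h.conj u (h1 ▸ Subgroup.mem_top u) v (h1 ▸ Subgroup.mem_top v) hu hv hu1 hv1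
  exact ⟨α, e⟩

/-- with trivial intersections the Sylow subgroups are abelian -/
theorem One.comm (h : One p S) (hT : H794.TI p S) (P : Sylow p S) : IsMulCommutative (P : Subgroup S) := by
  by_cases hP : Nontrivial (P : Subgroup S)
  swap
  · have := not_nontrivial_iff_subsingleton.1 hP
    exact ⟨⟨fun a b => Subsingleton.elim _ _⟩⟩
  obtain ⟨⟨z, hz⟩, hz1⟩ := @exists_ne _ (P.isPGroup'.center_nontrivial) 1
  have hz2 : (z : S) ≠ 1 := fun e => hz1 (Subtype.ext (Subtype.ext e))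
  refine ⟨⟨fun x y => ?_⟩⟩
  by_cases hx : (x : S) = 1
  · rw [show x = 1 from Subtype.ext hx, one_mul, mul_one]
  obtain ⟨α, e⟩ := h z x (pElt_of_mem P.isPGroup' z.2) (pElt_of_mem P.isPGroup' x.2) hz2 hx
  have h1 : (x : S) ∈ ((α • P : Sylow p S) : Subgroup S) := by
    rw [Sylow.pointwise_smul_def]
    exact ⟨z, z.2, e⟩
  have h2 : α • P = P := uq_of (hT P x x.2 hx) _ _ h1 x.2
  have h3 : (y : S) ∈ ((α • P : Sylow p S) : Subgroup S) := by rw [h2]; exact y.2
  rw [Sylow.pointwise_smul_def] at h3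
  obtain ⟨w, hw, e'⟩ := h3
  have h4 : w * z = z * w := congrArg Subtype.val (Subgroup.mem_center_iff.1 hz ⟨w, hw⟩)
  have e2 : α w = y := e'
  apply Subtype.ext
  change (x : S) * y = y * x
  rw [← e, ← e2, ← map_mul, ← map_mul, h4]

end Gen

section Rgd

open CoxeterSystem Cfsg.Agent.ChevalleyStructure.CoxeterGeom Cfsg.Agent.Tits.Roots
  Cfsg.Agent.Nodes.Reps Cfsg.Agent.Nodes.BNOf Cfsg.Agent.Nodes.StabComb
  Cfsg.Agent.Nodes.Bruhat Cfsg.Agent.Nodes.OppDec Cfsg.Agent.Nodes.LeviDec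

variable {I W Y : Type*} [Fintype I] [DecidableEq I] [Group W] [Finite W] [Group Y] {M : CoxeterMatrix I}
  {cs : CoxeterSystem M W} {A : I → I → ℤ} {h : IsCartan M A} {p : ℕ} {T : Subgroup Y} {n : I → Y}
  {X : (I → ℤ) → Subgroup Y} (R : RGD cs h p T n X)

include R

theorem B_le_normalizer_V (i : I) :
    RGD.B cs h T X ≤ Subgroup.normalizer (RGD.Sup X (RGD.PosNe cs h i) : Set Y) := by
  refine sup_le (R.T_le_normalizer fun _ hx => hx.1) ?_
  rw [R.Upos_eq i]
  exact sup_le (R.X_le_normalizer_V i) Subgroup.le_normalizer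

/-- a regular element -/
theorem exists_reg : ∃ u ∈ RGD.Sup X (RGD.Pos cs h), ∀ i, u ∉ RGD.Sup X (RGD.PosNe cs h i) := by
  have key : ∀ s : Finset I, ∃ u ∈ RGD.Sup X (RGD.Pos cs h), ∀ i, u ∈ RGD.Sup X (RGD.PosNe cs h i) ↔ i ∉ s := by
    intro s
    induction s using Finset.induction_on with
    | empty => exact ⟨1, one_mem _, fun i => by simp⟩
    | insert j s hj ih =>
      obtain ⟨u, hu, h1⟩ := ih
      obtain ⟨x, hx, hx1⟩ := exists_ne_one R j
      refine ⟨u * x, mul_mem hu (RGD.le_Sup (S := RGD.Pos cs h) ⟨isRoot_sr cs h j, sr_nonneg j⟩ hx), fun i => ?_⟩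
      by_cases hij : i = j
      · subst hij
        rw [Subgroup.mul_mem_cancel_left _ ((h1 i).2 hj)]
        exact ⟨fun e => absurd (eq_one_of_mem_PosNe R hx e) hx1, fun e => absurd (Finset.mem_insert_self i s) e⟩
      · have h2 : x ∈ RGD.Sup X (RGD.PosNe cs h i) := by
          refine RGD.le_Sup (S := RGD.PosNe cs h i) ⟨isRoot_sr cs h j, sr_nonneg j, fun e => ?_⟩ hx
          have h3 := congrFun e i
          rw [sr_self] at h3
          simp [sr, hij] at h3
        rw [Subgroup.mul_mem_cancel_right _ h2, h1 i]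
        simp [hij]
  obtain ⟨u, hu, h1⟩ := key Finset.univ
  exact ⟨u, hu, fun i e => (h1 i).1 e (Finset.mem_univ i)⟩

theorem mem_B_of_reg {u g : Y} (hu : u ∈ RGD.Sup X (RGD.Pos cs h)) (h1 : ∀ i, u ∉ RGD.Sup X (RGD.PosNe cs h i))
    (hg : g ∈ GG cs h T X) (h2 : g * u * g⁻¹ ∈ RGD.Sup X (RGD.Pos cs h)) : g ∈ RGD.B cs h T X := by
  obtain ⟨w, hw⟩ := (mem_GG R).1 hg
  by_cases hw1 : w = 1
  · subst hw1
    exact hw.mem_of_one
  exfalso
  obtain ⟨i, hi⟩ := cs.exists_rightDescent_of_ne_one hw1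
  have hi' : cs.length (w * cs.simple i) < cs.length w := hi
  have hneg : ¬ 0 ≤ rep cs h w (sr i) := fun e => by
    have := (lt_iff' cs h w i).2 e
    omega
  obtain ⟨b, hb, k, hk, b', hb', e⟩ := hw
  have h3 : b' * u * b'⁻¹ ∈ RGD.Sup X (RGD.Pos cs h) :=
    (Subgroup.mem_normalizer_iff.1 (R.B_le_normalizer_U hb') u).1 hu
  have h4 : b⁻¹ * (g * u * g⁻¹) * b⁻¹⁻¹ ∈ RGD.Sup X (RGD.Pos cs h) :=
    (Subgroup.mem_normalizer_iff.1 (R.B_le_normalizer_U (inv_mem hb)) _).1 h2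
  have h5 : k⁻¹⁻¹ * (b' * u * b'⁻¹) * k⁻¹ = b⁻¹ * (g * u * g⁻¹) * b⁻¹⁻¹ := by
    rw [e]; group
  have h6 := mem_PW_of_conj R hk.inv h3 (by rw [h5]; exact RGD.U_le_B h4)
  rw [inv_inv] at h6
  apply h1 i
  rw [Subgroup.mem_normalizer_iff.1 (B_le_normalizer_V R i hb') u]
  refine RGD.Sup_mono (S := PW cs h w) (S' := RGD.PosNe cs h i) (fun x hx => ⟨hx.1, hx.2.1, ?_⟩) h6
  rintro rfl
  exact hneg hx.2.2

theorem not_one_rgd [Finite Y] [Fact p.Prime] [Nontrivial I] (hG : GG cs h T X = ⊤) : ¬ One p Y := by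
  intro H
  obtain ⟨P, hP⟩ := R.isPGroup_Upos.exists_le_sylow
  have hPU : (P : Subgroup Y) = RGD.Sup X (RGD.Pos cs h) :=
    Nodes.NormalForm.eq_U_of_isPGroup R P.2 hP (by rw [hG]; exact le_top)
  obtain ⟨i, j, hij⟩ := exists_pair_ne I
  obtain ⟨u, hu, h1⟩ := exists_reg R
  obtain ⟨x, hx, hx1⟩ := exists_ne_one R j
  have hxU : x ∈ RGD.Sup X (RGD.Pos cs h) := RGD.le_Sup (S := RGD.Pos cs h) ⟨isRoot_sr cs h j, sr_nonneg j⟩ hx
  have h2 : Uq p u := uq_of (P := P) fun g hg => by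
    rw [hPU] at hg ⊢
    exact R.B_le_normalizer_U (mem_B_of_reg R hu h1 (by rw [hG]; trivial) hg)
  obtain ⟨α, e⟩ := H u x (pElt_of_mem R.isPGroup_Upos hu) (pElt_of_mem R.isPGroup_Upos hxU)
    (fun e => h1 i (e ▸ one_mem _)) hx1
  have h3 : Uq p x := e ▸ h2.aut α
  have h4 : n i * x * (n i)⁻¹ ∈ RGD.Sup X (RGD.Pos cs h) := by
    refine RGD.le_Sup (S := RGD.Pos cs h) ⟨(isRoot_sr cs h j).act _, ?_⟩
      (R.conj_mem (rp_simple cs R.nsys i) (isRoot_sr cs h j) hx)
    refine (isRoot_sr cs h j).simple_nonneg (sr_nonneg j) i fun e => ?_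
    have h3 := congrFun e i
    rw [sr_self] at h3
    simp [sr, hij] at h3
  have h5 := h3.mem_normalizer (P := P) (g := n i) (by rwa [hPU]) (by rwa [hPU])
  rw [hPU] at h5
  obtain ⟨y, hy, hy1⟩ := exists_ne_one R i
  refine hy1 (eq_one_of_conj_mem_B R hy (rp_simple cs R.nsys i) (RGD.U_le_B ?_))
  exact (Subgroup.mem_normalizer_iff.1 h5 y).1
    (RGD.le_Sup (S := RGD.Pos cs h) ⟨isRoot_sr cs h i, sr_nonneg i⟩ hy)

end Rgd

section ti

open Cfsg.Agent.ChevalleyStructure.CoxeterGeom Cfsg.Agent.Tits.Roots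
open Cfsg.Agent.Nodes.Comb Cfsg.Agent.Nodes.Reps Cfsg.Agent.Nodes.WittRoot Cfsg.Agent.Nodes.BNOf
open Cfsg.Agent.Nodes.RGDLib Cfsg.Agent.Nodes.WittAll Cfsg.Agent.Nodes.WittU Cfsg.Agent.Nodes.RGDChev
open Cfsg.Agent.TitsThree Cfsg.Agent.TitsThree.Siegel Cfsg.Agent.TitsThree.SiegelGen
  Cfsg.Agent.TitsThree.WittFrame Cfsg.Agent.TitsThree.WBridge Cfsg.Agent.TitsThree.WittWeyl
  Cfsg.Agent.TitsThree.FrameCN

theorem ti_psu3 {F : Type*} [Field F] [Fintype F] {q : ℕ} (hF : Fintype.card F = q ^ 2) {p : ℕ}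
    [Fact p.Prime] [CharP F p] [Finite (PSU 3 F q)] : H794.TI p (PSU 3 F q) := by
  obtain ⟨W, -⟩ := exists_wframe (N := 3) (m := 1) hF (Or.inr rfl)
  obtain ⟨p0, hp0, -⟩ := exists_adm hF W
  have R := rgdC_model (KInstU.model hF le_rfl W) (AmbT.of_amb (amb_U hF W) p) hp0
    (CoxeterMatrix.B 1).toCoxeterSystem
  have h1 := Nodes.WittModel.G1_eq_top (KInstU.model hF le_rfl W) (by norm_num : 0 < 1)
    (CoxeterMatrix.B 1).toCoxeterSystem
  have : Finite (CoxeterMatrix.B 1).Group := Nodes.TypeC.finite_W (CoxeterMatrix.B 1).toCoxeterSystem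
  refine H794.DefClosed.ti_of_rgd R ?_
  rw [eq_top_iff, ← h1]
  exact le_sup_right

end ti

theorem not_one_rk2 {p : ℕ} [Fact p.Prime] {S : Type*} [Group S] [Finite S] (h : H794.DefRank.HasRk2 p S) :
    ¬ One p S := by
  obtain ⟨l, M, A, h, T, n, X, R, hl, hW, hX⟩ := h
  have : Nontrivial (Fin l) := Fin.nontrivial_iff_two_le.2 hl
  refine not_one_rgd R ?_
  rw [eq_top_iff, ← hX]
  exact le_sup_right

/-- **Only `PSL₂` survives.** -/
theorem psl2_of_pure {p : ℕ} [Fact p.Prime] {S : Type*} [Group S] [Finite S]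
    (hS : IsLieTypeChar p S) {A : Subgroup (MulAut S)} {Q : Subgroup S} (h : Pure p S A Q) :
    ∃ (F : Type) (_ : Field F) (_ : Fintype F) (_ : CharP F p), 4 ≤ Fintype.card F ∧
      Nonempty (S ≃* Matrix.ProjectiveSpecialLinearGroup (Fin 2) F) := by
  have h1 := pure_one hS h
  rcases H794.DefRank.rk2_or h.odd hS with h2 | h2 | ⟨F, _, _, _, q, hF, hq, ⟨e⟩⟩ | ⟨rfl, h2⟩
  · exact absurd h1 (not_one_rk2 h2)
  · exact h2
  · have : Finite (PSU 3 F q) := Quotient.finite _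
    exact absurd (h1.comm (H794.DefClosed.TI.congr e.symm (ti_psu3 hF)) default)
      (H800.Sp.NotAb.of_mulEquiv e.symm (H794.PsuNotAb.notAb hF le_rfl) _)
  · exact absurd (h1.comm (H794.DefClosed.ti_ree h2) default) (H794.DefAb.notAb_ree h2 _)

end Cfsg.Agent.TO.DC
end

-- part: TO/DC/SL2
section
/-!
# S4817, defining characteristic: the blocks of `SL₂(q)`
-/

set_option autoImplicit false
set_option linter.unusedSectionVars false

namespace Cfsg.Agent.TO.DC

open Cfsg Matrix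

theorem arith {h a b c d : ℕ} (hh : 2 ≤ h) (hc : c ≤ 2) (hd : d ≤ 2)
    (e : a * (2 * h + 2) ^ 2 + b * (2 * h) ^ 2 + c * (h + 1) ^ 2 + d * h ^ 2 = 2 * h * (h + 1) * (2 * h + 1)) :
    a ≠ 0 ∧ b ≠ 0 ∧ (c ≠ 0 ∨ d ≠ 0) := by
  have e1 : (4 * a + c) * (h + 1) ^ 2 + (4 * b + d) * h ^ 2 = 2 * h * (h + 1) * (2 * h + 1) := by
    rw [← e]; ring
  have hco : Nat.Coprime h (h + 1) := by simp
  have h1 : h ∣ 4 * a + c := by
    refine (hco.pow_right 2).dvd_of_dvd_mul_right ?_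
    refine (Nat.dvd_add_left (show h ∣ (4 * b + d) * h ^ 2 from Dvd.dvd.mul_left (dvd_pow_self h two_ne_zero) _)).1 ?_
    rw [e1]
    exact ⟨2 * (h + 1) * (2 * h + 1), by ring⟩
  have h2 : h + 1 ∣ 4 * b + d := by
    refine (hco.symm.pow_right 2).dvd_of_dvd_mul_right ?_
    refine (Nat.dvd_add_right
      (show h + 1 ∣ (4 * a + c) * (h + 1) ^ 2 from Dvd.dvd.mul_left (dvd_pow_self _ two_ne_zero) _)).1 ?_
    rw [e1]
    exact ⟨2 * h * (2 * h + 1), by ring⟩
  obtain ⟨A, hA⟩ := h1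
  obtain ⟨B, hB⟩ := h2
  rw [hA, hB] at e1
  have e2 : A * (h + 1) + B * h = 4 * h + 2 := by
    refine Nat.eq_of_mul_eq_mul_left (show 0 < h * (h + 1) by positivity) ?_
    calc h * (h + 1) * (A * (h + 1) + B * h) = h * A * (h + 1) ^ 2 + (h + 1) * B * h ^ 2 := by ring
      _ = _ := by rw [e1]; ring
  have hA4 : A < 4 := by
    by_contra hcon
    have : 4 * (h + 1) ≤ A * (h + 1) := Nat.mul_le_mul_right _ (by omega)
    omega
  have hB6 : B < 6 := by
    by_contra hcon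
    have : 6 * h ≤ B * h := Nat.mul_le_mul_right _ (by omega)
    omega
  interval_cases A <;> interval_cases B <;> (clear * - hh e2 hd hB hc hA; omega)

variable {F : Type} [Field F] [Fintype F]

local notation "𝔾" => SpecialLinearGroup (Fin 2) F

theorem neg_one_ne (hodd : Odd (Fintype.card F)) : (-1 : 𝔾) ≠ 1 := by
  intro e
  have h1 : (-1 : F) = 1 := by
    simpa only [_root_.Fin.isValue, _root_.Matrix.SpecialLinearGroup.coe_neg, _root_.Matrix.SpecialLinearGroup.coe_one, _root_.Matrix.neg_apply, _root_.Matrix.one_apply_eq] using congrArg (fun g : 𝔾 => (g : Matrix (Fin 2) (Fin 2) F) 0 0) e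
  have h2 : (2 : F) = 0 := by linear_combination -h1
  have h3 : CharP F 2 := CharTwo.of_one_ne_zero_of_two_eq_zero one_ne_zero h2
  have h4 := FiniteField.even_card_of_char_two (F := F) (ringChar.eq F 2)
  obtain ⟨k, hk⟩ := hodd
  omega

theorem sum_faithful [Fintype (IrrCharacter 𝔾)] (hodd : Odd (Fintype.card F))
    [DecidablePred fun χ : IrrCharacter 𝔾 => χ.1 (-1) = -χ.1 1] :
    2 * ∑ χ ∈ Finset.univ.filter (fun χ : IrrCharacter 𝔾 => χ.1 (-1) = -χ.1 1), charDegree χ.1 ^ 2 = Nat.card 𝔾 := by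
  classical
  have h1 := H686.CharKit.col_orth (-1 : 𝔾) 1
  rw [if_neg (fun e => neg_one_ne hodd (isConj_one_left.1 e))] at h1
  have h2 := H686.CharKit.sum_deg_sq (G := 𝔾)
  have h3 : ((2 * ∑ χ ∈ Finset.univ.filter (fun χ : IrrCharacter 𝔾 => χ.1 (-1) = -χ.1 1), charDegree χ.1 ^ 2 : ℕ) : ℂ) =
      ((∑ χ : IrrCharacter 𝔾, charDegree χ.1 ^ 2 : ℕ) : ℂ) -
        ∑ χ : IrrCharacter 𝔾, χ.1 (-1) * (starRingEnd ℂ) (χ.1 1) := by
    push_cast
    rw [Finset.sum_filter, Finset.mul_sum, ← Finset.sum_sub_distrib]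
    refine Finset.sum_congr rfl fun χ _ => ?_
    have h4 := H686.CharKit.charDegree_irr χ
    split_ifs with h5
    · rw [h5, ← h4, Complex.conj_natCast]; ring
    · rw [(H142.SLTwoBlocks.apply_neg_one χ).resolve_right h5, ← h4, Complex.conj_natCast]; ring
  rw [h1, sub_zero, h2] at h3
  exact_mod_cast h3

/-- three faithful characters with different degrees -/
theorem three_degrees (hodd : Odd (Fintype.card F)) (h5 : 5 ≤ Fintype.card F) :
    ∃ χ₁ χ₂ χ₃ : IrrCharacter 𝔾, χ₁.1 (-1) = -χ₁.1 1 ∧ χ₂.1 (-1) = -χ₂.1 1 ∧ χ₃.1 (-1) = -χ₃.1 1 ∧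
      χ₁.1 1 ≠ χ₂.1 1 ∧ χ₁.1 1 ≠ χ₃.1 1 ∧ χ₂.1 1 ≠ χ₃.1 1 := by
  classical
  have : Finite (IrrCharacter 𝔾) := Characters.Core.finite_irr
  have := Fintype.ofFinite (IrrCharacter 𝔾)
  obtain ⟨h0, h1⟩ := S2299.result (F := F) hodd
  obtain ⟨c1, cq, -, -, c3, c4⟩ := h1 h5
  have hs := sum_faithful (F := F) hodd
  rw [H670.SL2.card_SL2] at hs
  obtain ⟨h, hq⟩ := hodd
  have e1 : (Fintype.card F + 1) / 2 = h + 1 := by omega
  have e2 : (Fintype.card F - 1) / 2 = h := by omega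
  rw [e1] at c3 h0
  rw [e2] at c4 h0
  have hh : 2 ≤ h := by omega
  set B := Finset.univ.filter (fun χ : IrrCharacter 𝔾 => χ.1 (-1) = -χ.1 1) with hB
  have hdeg : ∀ χ ∈ B, charDegree χ.1 = 2 * h + 2 ∨ charDegree χ.1 = 2 * h ∨ charDegree χ.1 = h + 1 ∨
      charDegree χ.1 = h := by
    intro χ hχ
    have h2 : χ.1 (-1) = -χ.1 1 := (Finset.mem_filter.1 hχ).2
    have h3 := H686.CharKit.charDegree_irr χ
    have h4 := Blocks.Basic.irr_one_ne_zero χ.2
    rcases h0 χ.1 χ.2 with e | e | e | e | e | e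
    · exfalso
      have h6 := (Nat.card_eq_one_iff_unique.1 c1).1.elim ⟨χ, e⟩ ⟨⟨1, Characters.Core.isIrr_one⟩, rfl⟩
      have h7 : χ.1 = 1 := congrArg (fun x => x.1.1) h6
      rw [h7] at h2
      norm_num at h2
    · exfalso
      have h6 := (Nat.card_eq_one_iff_unique.1 cq).1.elim ⟨χ, e⟩
        ⟨⟨_, H142.SLTwoBlocks.isIrr_st⟩, H142.SLTwoBlocks.st_one⟩
      have h7 : χ.1 = H142.SLTwoBlocks.st F := congrArg (fun x => x.1.1) h6
      rw [h7] at h2 h4
      rw [H142.SLTwoBlocks.st_neg_one, ← H142.SLTwoBlocks.st_one] at h2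
      exact h4 (by linear_combination h2 / 2)
    · left
      rw [← h3, hq] at e
      exact_mod_cast e
    · right; left
      rw [← h3, hq] at e
      have : (charDegree χ.1 : ℂ) = ((2 * h : ℕ) : ℂ) := by rw [e]; push_cast; ring
      exact_mod_cast this
    · right; right; left
      rw [← h3] at e
      exact_mod_cast e
    · right; right; right
      rw [← h3] at e
      exact_mod_cast e
  have hsum : ∑ χ ∈ B, charDegree χ.1 ^ 2 =
      (B.filter fun χ => charDegree χ.1 = 2 * h + 2).card * (2 * h + 2) ^ 2 +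
      (B.filter fun χ => charDegree χ.1 = 2 * h).card * (2 * h) ^ 2 +
      (B.filter fun χ => charDegree χ.1 = h + 1).card * (h + 1) ^ 2 +
      (B.filter fun χ => charDegree χ.1 = h).card * h ^ 2 := by
    simp only [Finset.card_filter, Finset.sum_mul, ← Finset.sum_add_distrib]
    refine Finset.sum_congr rfl fun χ hχ => ?_
    rcases hdeg χ hχ with e | e | e | e <;> rw [e]
    · rw [if_pos rfl, if_neg (by omega), if_neg (by omega), if_neg (by omega)]; ring
    · rw [if_neg (by omega), if_pos rfl, if_neg (by omega), if_neg (by omega)]; ring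
    · rw [if_neg (by omega), if_neg (by omega), if_pos rfl, if_neg (by omega)]; ring
    · rw [if_neg (by omega), if_neg (by omega), if_neg (by omega), if_pos rfl]; ring
  have hle : ∀ d : ℕ, Nat.card {χ : IrrCharacter 𝔾 // χ.1 1 = (d : ℂ)} = 2 →
      (B.filter fun χ => charDegree χ.1 = d).card ≤ 2 := by
    intro d hd
    rw [Nat.subtype_card (Finset.univ.filter fun χ : IrrCharacter 𝔾 => χ.1 1 = (d : ℂ)) (by simp only [_root_.Finset.mem_filter, _root_.Finset.mem_univ, _root_.true_and, _root_.implies_true])] at hd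
    refine le_trans (Finset.card_le_card fun χ hχ => ?_) hd.le
    rw [Finset.mem_filter] at hχ ⊢
    exact ⟨Finset.mem_univ _, by rw [← H686.CharKit.charDegree_irr χ, hχ.2]⟩
  obtain ⟨ha, hb, hcd⟩ := arith hh (hle _ c3) (hle _ c4) (by
    rw [← hsum]
    refine Nat.eq_of_mul_eq_mul_left two_pos ?_
    rw [hs, hq, Nat.add_sub_cancel]
    ring)
  have hne : ∀ χ ψ : IrrCharacter 𝔾, charDegree χ.1 ≠ charDegree ψ.1 → χ.1 1 ≠ ψ.1 1 := by
    intro χ ψ hne e
    rw [← H686.CharKit.charDegree_irr χ, ← H686.CharKit.charDegree_irr ψ] at e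
    exact hne (by exact_mod_cast e)
  obtain ⟨χ₁, h1⟩ := Finset.card_ne_zero.1 ha
  obtain ⟨χ₂, h2⟩ := Finset.card_ne_zero.1 hb
  have h3 : ∃ χ₃ ∈ B, charDegree χ₃.1 ≤ h + 1 := by
    rcases hcd with e | e
    · obtain ⟨χ, h3⟩ := Finset.card_ne_zero.1 e
      exact ⟨χ, (Finset.mem_filter.1 h3).1, (Finset.mem_filter.1 h3).2.le⟩
    · obtain ⟨χ, h3⟩ := Finset.card_ne_zero.1 e
      exact ⟨χ, (Finset.mem_filter.1 h3).1, by rw [(Finset.mem_filter.1 h3).2]; omega⟩
  obtain ⟨χ₃, h3, h4⟩ := h3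
  rw [Finset.mem_filter] at h1 h2
  refine ⟨χ₁, χ₂, χ₃, (Finset.mem_filter.1 h1.1).2, (Finset.mem_filter.1 h2.1).2, (Finset.mem_filter.1 h3).2,
    hne _ _ ?_, hne _ _ ?_, hne _ _ ?_⟩
  · rw [h1.2, h2.2]; omega
  · rw [h1.2]; omega
  · rw [h2.2]; omega

theorem perfect_sl2 (h4 : 4 ≤ Fintype.card F) : commutator 𝔾 = ⊤ := by
  classical
  obtain ⟨a, ha⟩ : ∃ a : F, a ∉ ({0, 1, -1} : Finset F) := by
    by_contra hcon
    push Not at hcon
    have h1 := Finset.card_le_card (s := Finset.univ) (fun a _ => hcon a)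
    have h2 : ({0, 1, -1} : Finset F).card ≤ 3 := Finset.card_le_three
    rw [Finset.card_univ] at h1
    omega
  simp only [Finset.mem_insert, Finset.mem_singleton, not_or] at ha
  refine Matrix.SL2.commutator_eq_top ha.1 fun e => ?_
  rcases sq_eq_one_iff.1 e with e | e
  · exact ha.2.1 e
  · exact ha.2.2 e

theorem deg_of_twoOf {G : Type*} [Group G] {b : Set (IrrCharacter G)} {χ₁ χ₂ f : G → ℂ} (h : TwoOf b χ₁ χ₂)
    (hf : f ∈ Fn b) : f 1 = χ₁ 1 ∨ f 1 = χ₂ 1 := by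
  rcases h.cov f hf with ⟨α, -, rfl⟩ | ⟨α, -, rfl⟩
  · left; simp
  · right; simp

/-- **`SL₂(q)` in defining characteristic** -/
theorem not_two_sl2 (hN : BoxNP) {p : ℕ} [Fact p.Prime] [CharP F p] (h4 : 4 ≤ Fintype.card F) {M : Ideal AlgInt}
    {b : Set (IrrCharacter 𝔾)} {D : Subgroup 𝔾} : ¬ Two p M b D := by
  intro H
  have hodd : Odd (Fintype.card F) := by
    obtain ⟨n, hp, hn⟩ := FiniteField.card F p
    rw [hn]
    exact (hp.odd_of_ne_two H.odd).pow
  have h5 : 5 ≤ Fintype.card F := by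
    obtain ⟨k, hk⟩ := hodd
    omega
  obtain ⟨ψ₁, ψ₂, h2⟩ := H.two
  rcases ((S2439.result p H.odd M H.hM).1 b).1 H.hb with e | e | e
  · apply h2.ne
    obtain ⟨χ₁, h3, rfl⟩ := h2.m1
    obtain ⟨χ₂, h4, rfl⟩ := h2.m2
    rw [e] at h3 h4
    exact h3.trans h4.symm
  · refine hN _ p M b D H (perfect_sl2 h4) ⟨⟨_, Blocks.Basic.isIrrCharacter_one⟩, ?_, rfl⟩
    rw [e]
    refine ⟨rfl, fun e' => ?_⟩
    have h6 : ((1 : ℕ) : ℂ) = (Fintype.card F : ℂ) := by rw [← e']; simp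
    have h7 : 1 = Fintype.card F := by exact_mod_cast h6
    omega
  · obtain ⟨χ₁, χ₂, χ₃, a1, a2, a3, n1, n2, n3⟩ := three_degrees (F := F) hodd h5
    have key : ∀ χ : IrrCharacter 𝔾, χ.1 (-1) = -χ.1 1 → χ.1 1 = ψ₁ 1 ∨ χ.1 1 = ψ₂ 1 := fun χ hχ =>
      deg_of_twoOf h2 ⟨χ, by rw [e]; exact hχ, rfl⟩
    rcases key _ a1 with b1 | b1 <;> rcases key _ a2 with b2 | b2 <;> rcases key _ a3 with b3 | b3 <;>
      first
        | exact n1 (b1.trans b2.symm)
        | exact n2 (b1.trans b3.symm)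
        | exact n3 (b2.trans b3.symm)

end Cfsg.Agent.TO.DC
end

-- part: TO/DC/Lie
section
/-!
# S4817: the row of the groups of Lie type in defining characteristic
-/

set_option autoImplicit false
set_option linter.unusedSectionVars false

namespace Cfsg.Agent.TO.DC

open Cfsg Matrix

/-- a self-centralizing abelian defect group belongs to the principal block -/
theorem false_of_selfCent (B : Blk) {G : Type} [Group G] [Finite G] {p : ℕ} [Fact p.Prime] {M : Ideal AlgInt}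
    {b : Set (IrrCharacter G)} {D : Subgroup G} (H : Two p M b D) (hG : commutator G = ⊤) (h1 : D ≤ Ce D)
    (h2 : Ce D ≤ D) : False := by
  classical
  obtain ⟨θ, hθ⟩ := B.can0 G p M b D H.hM H.hb H.hD h1
  refine B.np G p M b D H hG ((B.can1 G p M b D θ hθ).prin fun c hc => ?_)
  have := Fintype.ofFinite (Ce D)
  obtain ⟨n, hn, h3⟩ := Characters.Core.isIrr_apply_one hθ.irr
  have h4 : θ 1 = n := h3
  have h5 := Characters.Core.classInner_irr_self hθ.irr
  rw [Characters.Core.classInner_def, Finset.sum_congr rfl (g := fun _ => ((n ^ 2 : ℕ) : ℂ)) (fun x _ => by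
    rw [hθ.triv x (h2 x.2), h4, Complex.conj_natCast]; push_cast; ring), Finset.sum_const, Finset.card_univ,
    nsmul_eq_mul, ← Nat.card_eq_fintype_card, inv_mul_cancel_left₀ Characters.Core.card_ne_zero_complex] at h5
  have h6 : n ^ 2 = 1 := by exact_mod_cast h5
  have h7 : n = 1 := by simpa using h6
  rw [hθ.triv c (h2 hc), h4, h7, Nat.cast_one]

variable {F : Type} [Field F] [Fintype F] {p : ℕ} [hp : Fact p.Prime] [CharP F p]

local notation "𝔾" => SpecialLinearGroup (Fin 2) F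
local notation "𝕏" => ProjectiveSpecialLinearGroup (Fin 2) F

theorem exists_cover (h4 : 5 ≤ Fintype.card F) {G : Type} [Group G] [Finite G] {σ : G →* 𝕏}
    (hG : commutator G = ⊤) (hσ : Function.Surjective σ) (hc : σ.ker ≤ Subgroup.center G)
    (hz : ¬ p ∣ Nat.card σ.ker) : ∃ φ : 𝔾 →* G, Function.Surjective φ ∧ ∀ x, σ (φ x) = QuotientGroup.mk x := by
  have hS := perfect_sl2 (F := F) (by omega)
  have hτ : Function.Surjective (QuotientGroup.mk' (Subgroup.center 𝔾)) := QuotientGroup.mk'_surjective _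
  have hτc : (QuotientGroup.mk' (Subgroup.center 𝔾)).ker ≤ Subgroup.center 𝔾 := (QuotientGroup.ker_mk' _).le
  have hX : commutator 𝕏 = ⊤ := by
    have h1 : (commutator G).map σ = ⁅σ.range, σ.range⁆ := map_commutator_eq G σ
    rw [hG, ← MonoidHom.range_eq_map, MonoidHom.range_eq_top.2 hσ] at h1
    rw [commutator_def]; exact h1.symm
  refine H95.StemCover.exists_of_injective hX (H95.StemCover.isStem hS hτ hτc) (H95.StemCover.isStem hG hσ hc) ?_
  have hst := H95.StemCover.stem_EE hX hτ hσ hτc hc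
  have hW := H95.StemCover.commutator_EE hX hτ hσ hτc hc
  have h1 := H95.StemCover.pΓ_surj hX (H95.StemCover.isStem hS hτ hτc) hσ
  have h2 : (H95.StemCover.pΓ (QuotientGroup.mk' (Subgroup.center 𝔾)) σ).ker ≤ Subgroup.center _ :=
    fun x hx => hst.2.1 (by
      rw [MonoidHom.mem_ker, MonoidHom.comp_apply, MonoidHom.mem_ker.1 hx, map_one])
  by_cases h9 : Fintype.card F = 9
  swap
  · exact H95.StemCover.injective_of_trivial (S2117.result (by omega) h9) hW _ h1 h2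
  have h3 := H95.StemCover.card_ker_dvd_cyclic (S2118.result h9) hW _ h1 h2
  have hp3 : p = 3 := by
    obtain ⟨k, hpp, hk⟩ := FiniteField.card F p
    have h6 : p ∣ 3 ^ 2 := by
      rw [show (3 : ℕ) ^ 2 = Fintype.card F by rw [h9]; norm_num, hk]
      exact dvd_pow_self p k.pos.ne'
    exact (Nat.prime_dvd_prime_iff_eq hpp Nat.prime_three).1 (hpp.dvd_of_dvd_pow h6)
  subst hp3
  rw [injective_iff_map_eq_one]
  intro x hx
  have h5 : x ^ 3 = 1 := by
    have := (orderOf_dvd_natCard (⟨x, hx⟩ : MonoidHom.ker _)).trans h3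
    exact congrArg Subtype.val (orderOf_dvd_iff_pow_eq_one.1 this)
  have h6 : σ x.1.2 = 1 := by
    have := H95.StemCover.comp_eq x
    rw [hx, map_one] at this
    exact this.symm
  have h7 : x.1.2 ^ 3 = 1 := congrArg (fun y => y.1.2) h5
  have h8 : x.1.2 = 1 := (show BHZ.Nil.CentPP 3 σ from ⟨hc, hz⟩).eq_one h6 (n := 1) (by simpa using h7)
  exact Subtype.ext (Prod.ext hx h8)

theorem center_cases {z : 𝔾} (hz : z ∈ Subgroup.center 𝔾) : z = 1 ∨ z = -1 := by
  obtain ⟨r, hr, e⟩ := Matrix.SpecialLinearGroup.mem_center_iff.1 hz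
  rw [Fintype.card_fin] at hr
  rcases sq_eq_one_iff.1 hr with rfl | rfl
  · left
    apply Subtype.ext
    rw [← e, map_one]; rfl
  · right
    apply Subtype.ext
    rw [← e, map_neg, map_one]; rfl

theorem psl2_comm {Q : Subgroup 𝕏} (hQ : IsPGroup p Q) : Q ≤ Ce Q := by
  have : Finite 𝕏 := Quotient.finite _
  obtain ⟨n, -, hn⟩ := FiniteField.card F p
  have h1 : IsPGroup p (Classification.PSLTwoEvenSylow.uniP (F := F)).range := by
    refine IsPGroup.of_card (n := n) ?_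
    rw [← Nat.card_congr (MonoidHom.ofInjective Classification.PSLTwoEvenSylow.uniP_injective).toEquiv, ← hn,
      ← Nat.card_eq_fintype_card]
    exact Nat.card_congr Multiplicative.toAdd
  obtain ⟨P, hP⟩ := h1.exists_le_sylow
  have h2 := H794.PslTwo.eq_of_isPGroup P.isPGroup' hP
  obtain ⟨R, hR⟩ := hQ.exists_le_sylow
  obtain ⟨g, rfl⟩ := MulAction.exists_smul_eq 𝕏 P R
  intro x hx
  refine Subgroup.mem_centralizer_iff.2 fun y hy => ?_
  have h3 := hR hx
  have h4 := hR hy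
  rw [Sylow.coe_subgroup_smul, ← h2] at h3 h4
  obtain ⟨_, ⟨a, rfl⟩, rfl⟩ := h3
  obtain ⟨_, ⟨c, rfl⟩, rfl⟩ := h4
  change MulAut.conj g _ * MulAut.conj g _ = MulAut.conj g _ * MulAut.conj g _
  rw [← map_mul, ← map_mul, ← map_mul, ← map_mul, mul_comm]

theorem row_psl2 (B : Blk) (h4 : 4 ≤ Fintype.card F) : Row p 𝕏 := by
  intro G _ _ σ M b D H
  have h5 : 5 ≤ Fintype.card F := by
    obtain ⟨n, hp, hn⟩ := FiniteField.card F p
    obtain ⟨k, hk⟩ : Odd (Fintype.card F) := by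
      rw [hn]
      exact (hp.odd_of_ne_two H.odd).pow
    omega
  obtain ⟨φ, h1, h2⟩ := exists_cover (p := p) h5 H.perf H.surj H.ker.le (by rw [H.ker]; exact H.zp)
  by_cases h3 : φ (-1) = 1
  swap
  · have h6 : Function.Injective φ := by
      rw [injective_iff_map_eq_one]
      intro x hx
      have h7 := h2 x
      rw [hx, map_one] at h7
      rcases center_cases ((QuotientGroup.eq_one_iff x).1 h7.symm) with e | e
      · exact e
      · exact absurd (e ▸ hx) h3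
    exact not_two_sl2 B.np h4 (H.toTwo.of_equiv (MulEquiv.ofBijective φ ⟨h6, h1⟩).symm)
  have h6 : Function.Injective σ := by
    rw [injective_iff_map_eq_one]
    intro g hg
    obtain ⟨x, rfl⟩ := h1 g
    rw [h2] at hg
    rcases center_cases ((QuotientGroup.eq_one_iff x).1 hg) with e | e
    · rw [e, map_one]
    · rw [e, h3]
  have : Finite 𝕏 := Quotient.finite _
  have hP := B.pure G p M b D _ σ H
  have h7 := pure_cent (Or.inl ⟨F, inferInstance, inferInstance, inferInstance, 2, le_rfl, fun _ => h4,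
    ⟨MulEquiv.refl _⟩⟩) hP
  have h8 := psl2_comm hP.pg
  refine false_of_selfCent B H.toTwo H.perf (fun x hx => ?_) fun x hx => ?_
  · refine Subgroup.mem_centralizer_iff.2 fun y hy => h6 ?_
    rw [map_mul, map_mul]
    exact Subgroup.mem_centralizer_iff.1 (h8 ⟨x, hx, rfl⟩) _ ⟨y, hy, rfl⟩
  · obtain ⟨y, hy, e⟩ := h7 (x := σ x) (Subgroup.mem_centralizer_iff.2 (by
      rintro _ ⟨y, hy, rfl⟩
      rw [← map_mul, ← map_mul, Subgroup.mem_centralizer_iff.1 hx y hy]))
    exact h6 e ▸ hy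

/-- **The row of the defining characteristic.** -/
theorem rowLie (B : Blk) : RowFor (fun p S _ => IsLieTypeChar p S) := by
  intro p _ _ S _ _ _ _ hS G _ _ σ M b D H
  obtain ⟨F, _, _, _, h4, ⟨e⟩⟩ := psl2_of_pure hS (B.pure G p M b D S σ H)
  exact Row.of_equiv e (row_psl2 B h4) G σ M b D H

end Cfsg.Agent.TO.DC
end
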